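import Groth.Agent.RegSect.Basic
import Groth.Agent.CplBC.Global
import Groth.Agent.CplNormal.Main
import Groth.Agent.AltN1.Basic
import Groth.Agent.GeomProp.NormalColim
import Mathlib

/-!
The normalisation of a local domain with a regular alteration is analytically normal.
-/

set_option autoImplicit false
set_option linter.style.haveILetI false
set_option backward.isDefEq.respectTransparency false
set_option maxHeartbeats 1000000

universe u

open CategoryTheory CategoryTheory.Limits AlgebraicGeometry TopologicalSpace Opposite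
open scoped TensorProduct

noncomputable section

namespace Groth.Agent.RegSect

variable {A : Type u} [CommRing A] {X : Scheme.{u}} (f : X ⟶ Spec (CommRingCat.of A))

theorem exists_lift_closure [IsDomain A] [IsIntegral X] [IsDominant f]
    (hreg : ∀ x : X, IsRegularLocalRing (X.presheaf.stalk x)) :
    ∃ ι : integralClosure A (FractionRing A) →+* Γ(X, ⊤), Function.Injective ι ∧
      ι.comp (algebraMap A (integralClosure A (FractionRing A))) = Coh.toGlobal f := by
  haveI : Nonempty (⊤ : X.Opens) := ⟨⟨genericPoint X, trivial⟩⟩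
  let g : A →+* Γ(X, ⊤) := Coh.toGlobal f
  let j : A →+* X.functionField := (X.germToFunctionField ⊤).hom.comp g
  have hg : Function.Injective g := fun a b hab =>
    AltN1.toGlobal_injective f ⊤ ⟨genericPoint X, trivial⟩ (congrArg _ hab)
  have hinj := X.germToFunctionField_injective ⊤
  have hj : Function.Injective j := hinj.comp hg
  let L : FractionRing A →+* X.functionField := IsFractionRing.lift hj
  letI : Algebra A X.functionField := j.toAlgebra
  let Lₐ : FractionRing A →ₐ[A] X.functionField := ⟨L, fun a => IsFractionRing.lift_algebraMap hj a⟩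
  choose s hs using fun z : integralClosure A (FractionRing A) =>
    AltN1.mem_range_of_integral hreg g (Lₐ z.1) (z.2.map Lₐ)
  refine ⟨{ toFun := s, map_one' := hinj ?_, map_mul' := fun a b => hinj ?_, map_zero' := hinj ?_,
            map_add' := fun a b => hinj ?_ }, fun a b hab => Subtype.ext (L.injective ?_), ?_⟩
  · rw [hs, map_one, OneMemClass.coe_one, map_one]
  · rw [map_mul, hs, hs, hs, MulMemClass.coe_mul, map_mul]
  · rw [hs, map_zero, ZeroMemClass.coe_zero, map_zero]
  · rw [map_add, hs, hs, hs, AddMemClass.coe_add, map_add]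
  · exact ((hs a).symm.trans (congrArg _ hab)).trans (hs b)
  · ext a
    refine hinj ?_
    show X.germToFunctionField ⊤ (s (algebraMap A _ a)) = _
    rw [hs]
    exact Lₐ.commutes a

theorem isNormalRing_cpl_sections [IsLocalRing A] [IsNoetherianRing A] [IsProper f]
    (hreg : ∀ x : X, IsRegularLocalRing (X.presheaf.stalk x)) :
    letI : Algebra A Γ(X, ⊤) := (Coh.toGlobal f : A →+* Γ(X, ⊤)).toAlgebra
    EGA4.IsNormalRing (AdicCompletion ((IsLocalRing.maximalIdeal A).map (algebraMap A Γ(X, ⊤))) Γ(X, ⊤)) := by
  letI : Algebra A Γ(X, ⊤) := (Coh.toGlobal f : A →+* Γ(X, ⊤)).toAlgebra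
  haveI : Module.Finite A Γ(X, ⊤) := AltN1.finite_global f
  haveI : IsNoetherian (Curv2.bcCpl A f) := by
    haveI := CplBC.isLocallyNoetherian_bcCpl f
    haveI : CompactSpace (Curv2.bcCpl A f) := QuasiCompact.compactSpace_of_compactSpace (Curv2.bcCplSnd A f)
    exact {}
  have hN := isNormalRing_sections ((CplBC.forall_regular_iff f).mp hreg)
  let q := Spec.map (CommRingCat.ofHom (algebraMap A (Curv2.cpl A)))
  haveI : Flat q := by
    rw [HasRingHomProperty.Spec_iff (P := @Flat)]
    exact RingHom.flat_algebraMap_iff.mpr inferInstance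
  haveI : CompactSpace X := QuasiCompact.compactSpace_of_compactSpace f
  haveI : QuasiSeparatedSpace X := quasiSeparatedSpace_of_quasiSeparated f
  have h1 := (isIso_pushoutSection_iff (IsPullback.of_hasPullback f q) (US := ⊤) (UT := ⊤) (UX := ⊤)
    (UY := ⊤) (by simp) (by simp) (by simp)).mp
    (isIso_pushoutSection_of_isQuasiSeparated_of_flat_right _ _ _ _ (isAffineOpen_top _) (isAffineOpen_top _)
      isCompact_univ isQuasiSeparated_univ)
  have h2 : IsPushout (CommRingCat.ofHom (algebraMap A Γ(X, ⊤))) (CommRingCat.ofHom (algebraMap A (Curv2.cpl A)))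
      ((Curv2.bcCplFst A f).appLE ⊤ ⊤ (by simp))
      ((Scheme.ΓSpecIso (CommRingCat.of (Curv2.cpl A))).inv ≫ (Curv2.bcCplSnd A f).appLE ⊤ ⊤ (by simp)) := by
    refine h1.of_iso (Scheme.ΓSpecIso (CommRingCat.of A)) (Iso.refl _)
      (Scheme.ΓSpecIso (CommRingCat.of (Curv2.cpl A))) (Iso.refl _) ?_ ?_ ?_ ?_
    · simp only [Iso.refl_hom, Category.comp_id]
      rw [← Iso.inv_comp_eq, Scheme.Hom.appLE]
      show _ = (Scheme.ΓSpecIso (CommRingCat.of A)).inv ≫ f.appTop
      simp
    · rw [Scheme.Hom.appLE]
      simp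
      exact Scheme.ΓSpecIso_naturality _
    · simp
      rfl
    · simp
      rfl
  exact FlatDepth.isNormalRing_of_equiv
    (((h2.isoIsPushout _ _ (CommRingCat.isPushout_tensorProduct A Γ(X, ⊤) (Curv2.cpl A))).commRingCatIsoToRingEquiv).trans
      ((Algebra.TensorProduct.comm A Γ(X, ⊤) (Curv2.cpl A)).toRingEquiv.trans
        (CplNormal.exists_cpl_equiv (IsLocalRing.maximalIdeal A) (S := Γ(X, ⊤))).some)) hN

theorem isNormalRing_cpl_closure [IsDomain A] [IsLocalRing A] [IsNoetherianRing A] [IsProper f] [IsIntegral X]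
    [IsDominant f] (hreg : ∀ x : X, IsRegularLocalRing (X.presheaf.stalk x)) :
    EGA4.IsNormalRing (AdicCompletion
      ((IsLocalRing.maximalIdeal A).map (algebraMap A (integralClosure A (FractionRing A))))
      (integralClosure A (FractionRing A))) := by
  obtain ⟨ι, hι, hιA⟩ := exists_lift_closure f hreg
  letI : Algebra A Γ(X, ⊤) := (Coh.toGlobal f : A →+* Γ(X, ⊤)).toAlgebra
  letI : Algebra (integralClosure A (FractionRing A)) Γ(X, ⊤) := ι.toAlgebra
  haveI : IsScalarTower A (integralClosure A (FractionRing A)) Γ(X, ⊤) := IsScalarTower.of_algebraMap_eq' hιA.symm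
  haveI : Module.Finite A Γ(X, ⊤) := AltN1.finite_global f
  haveI : Module.Finite A (integralClosure A (FractionRing A)) := AltN1.isN1 f hreg
  haveI : IsIntegrallyClosed (integralClosure A (FractionRing A)) :=
    integralClosure.isIntegrallyClosedOfFiniteExtension (FractionRing A)
  exact CplNormal.isNormalRing_completion A (IsLocalRing.maximalIdeal A) (integralClosure A (FractionRing A))
    Γ(X, ⊤) hι (GeomProp.isNormalRing_of_domain _) (isNormalRing_cpl_sections f hreg)

end Groth.Agent.RegSect
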