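import Groth.Agent.UfdExtend.Local
import Groth.Agent.Purity.Chart
import Groth.Agent.DivPart.Basic
import Groth.Agent.CplNormal.Alg
import Mathlib

/-!
Global functions on a regular Noetherian scheme form a normal ring.
-/

set_option autoImplicit false
set_option linter.style.haveILetI false
set_option backward.isDefEq.respectTransparency false

universe u

open CategoryTheory AlgebraicGeometry TopologicalSpace Opposite
open Groth.Agent.QC (resO)
open Groth.Agent.UfdExtend (IntOpen exists_intOpen)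

noncomputable section

namespace Groth.Agent.RegSect

variable {X : Scheme.{u}}

theorem isNormalRing_sections [IsNoetherian X] (hreg : ∀ x : X, IsRegularLocalRing (X.presheaf.stalk x)) :
    EGA4.IsNormalRing Γ(X, ⊤) := by
  classical
  have hex : ∀ x : X, ∃ D : X.Opens, IsAffineOpen D ∧ x ∈ D ∧ IntOpen X D := fun x => by
    haveI := hreg x
    haveI := RegLoc.isDomain (A := X.presheaf.stalk x)
    obtain ⟨D, hD, hxD, -, hint⟩ := exists_intOpen (x := x) (N := ⊤) trivial
    exact ⟨D, hD, hxD, hint⟩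
  choose D hD hxD hint using hex
  obtain ⟨t, ht⟩ := CompactSpace.isCompact_univ.elim_finite_subcover (fun x => (D x : Set X))
    (fun x => (D x).2) (fun x _ => Set.mem_iUnion.mpr ⟨x, hxD x⟩)
  haveI : ∀ x, IsDomain Γ(X, D x) := fun x => (hint x).dom le_rfl (hxD x)
  let η : X → X := fun x => (hD x).fromSpec ⟨⊥, Ideal.isPrime_bot⟩
  have hηD : ∀ x, η x ∈ D x := fun x => (hD x).range_fromSpec.subset ⟨_, rfl⟩
  have hpr : ∀ x, DivPart.pr ⟨D x, hD x⟩ (x := η x) (hηD x) = ⊥ := fun x =>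
    congrArg PrimeSpectrum.asIdeal ((hD x).fromSpec.isOpenEmbedding.injective
      ((hD x).fromSpec_primeIdealOf ⟨η x, hηD x⟩) : (hD x).primeIdealOf ⟨η x, hηD x⟩ = ⟨⊥, Ideal.isPrime_bot⟩)
  have hspec : ∀ x z, z ∈ D x → η x ⤳ z := fun x z hz =>
    DivPart.specializes_of_pr_le ⟨D x, hD x⟩ (x := z) (y := η x) hz (hηD x) (by rw [hpr x]; exact bot_le)
  let F : Finset X := t.image η
  let T : Type u := ∀ y : {y // y ∈ F}, X.presheaf.stalk y.1
  let g : Γ(X, ⊤) →+* T := RingHom.pi fun y => (X.presheaf.germ ⊤ y.1 trivial).hom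
  have hfrac : ∀ x, letI := TopCat.Presheaf.algebra_section_stalk X.presheaf (⟨η x, hηD x⟩ : D x)
      IsFractionRing Γ(X, D x) (X.presheaf.stalk (η x)) := fun x => by
    letI := TopCat.Presheaf.algebra_section_stalk X.presheaf (⟨η x, hηD x⟩ : D x)
    have h1 := (hD x).isLocalization_stalk ⟨η x, hηD x⟩
    have h2 : ((hD x).primeIdealOf ⟨η x, hηD x⟩).asIdeal.primeCompl = nonZeroDivisors Γ(X, D x) := by
      ext a
      rw [mem_nonZeroDivisors_iff_ne_zero]
      show a ∉ DivPart.pr ⟨D x, hD x⟩ (x := η x) (hηD x) ↔ _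
      rw [hpr x, Submodule.mem_bot]
    show IsLocalization (nonZeroDivisors Γ(X, D x)) _
    rw [← h2]
    exact h1
  haveI : ∀ y : {y // y ∈ F}, IsSemisimpleRing (X.presheaf.stalk y.1) := fun y => by
    obtain ⟨x, -, hx⟩ := Finset.mem_image.mp y.2
    obtain ⟨y, hy⟩ := y
    subst hx
    letI := TopCat.Presheaf.algebra_section_stalk X.presheaf (⟨η x, hηD x⟩ : D x)
    haveI := hfrac x
    letI := (IsFractionRing.toField Γ(X, D x) (K := X.presheaf.stalk (η x)))
    infer_instance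
  haveI : IsSemisimpleRing T := inferInstance
  have hinjD : ∀ x (V : X.Opens) (hV : V ≤ D x) (hη : η x ∈ V),
      Function.Injective (X.presheaf.germ V (η x) hη) := fun x V hV hη a b hab => by
    obtain ⟨O, hO, i, i', he⟩ := X.presheaf.germ_eq (η x) hη hη a b hab
    exact (hint x).inj i.le hV hO (by exact he)
  have hcov : ∀ z : X, ∃ x ∈ t, z ∈ D x := fun z => by
    obtain ⟨x, hx⟩ := Set.mem_iUnion.mp (ht (Set.mem_univ z))
    obtain ⟨hxt, hz⟩ := Set.mem_iUnion.mp hx
    exact ⟨x, hxt, hz⟩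
  have hgi : Function.Injective g := fun a b hab => by
    refine TopCat.Sheaf.eq_of_locally_eq' X.sheaf (fun x : t => D x.1) ⊤ (fun x => homOfLE le_top)
      (fun z _ => by
        obtain ⟨x, hxt, hz⟩ := hcov z
        exact Opens.mem_iSup.mpr ⟨⟨x, hxt⟩, hz⟩) a b fun x => ?_
    refine hinjD x.1 (D x.1) le_rfl (hηD x.1) ?_
    have h1 := congrFun hab ⟨η x.1, Finset.mem_image_of_mem η x.2⟩
    exact (TopCat.Presheaf.germ_res_apply _ (homOfLE (le_top : D x.1 ≤ ⊤)) _ (hηD x.1) a).trans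
      (h1.trans (TopCat.Presheaf.germ_res_apply _ (homOfLE (le_top : D x.1 ≤ ⊤)) _ (hηD x.1) b).symm)
  haveI : IsNoetherianRing T := inferInstance
  refine NormalBC.isNormalRing_of_integrallyClosed g hgi (CplNormal.isNormalRing_of_semisimple T)
    (minimalPrimes.finite_of_isNoetherianRing T) fun v hv => ?_
  have hloc : ∀ x : t, ∃ s : Γ(X, D x.1),
      X.presheaf.germ (D x.1) (η x.1) (hηD x.1) s = v ⟨η x.1, Finset.mem_image_of_mem η x.2⟩ := fun x => by
    letI := TopCat.Presheaf.algebra_section_stalk X.presheaf (⟨η x.1, hηD x.1⟩ : D x.1)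
    haveI := hfrac x.1
    haveI := Purity.isIntegrallyClosed_chart hreg (hD x.1)
    obtain ⟨p, hp, hpv⟩ := hv
    have h1 : IsIntegral Γ(X, D x.1) (v ⟨η x.1, Finset.mem_image_of_mem η x.2⟩) := by
      refine ⟨p.map (X.presheaf.map (homOfLE (le_top : D x.1 ≤ ⊤)).op).hom, hp.map _, ?_⟩
      have h2 := congrArg (Pi.evalRingHom (fun y : {y // y ∈ F} => X.presheaf.stalk y.1)
        ⟨η x.1, Finset.mem_image_of_mem η x.2⟩) hpv
      rw [Polynomial.hom_eval₂, map_zero] at h2
      rw [Polynomial.eval₂_map]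
      refine Eq.trans (congrArg (fun φ => Polynomial.eval₂ φ _ p) ?_) h2
      ext a
      exact TopCat.Presheaf.germ_res_apply _ (homOfLE (le_top : D x.1 ≤ ⊤)) _ (hηD x.1) a
    exact IsIntegrallyClosed.isIntegral_iff.mp h1
  choose s hs using hloc
  obtain ⟨a, ha, -⟩ := TopCat.Sheaf.existsUnique_gluing' X.sheaf (fun x : t => D x.1) ⊤
    (fun x => homOfLE le_top) (fun z _ => by
      obtain ⟨x, hxt, hz⟩ := hcov z
      exact Opens.mem_iSup.mpr ⟨⟨x, hxt⟩, hz⟩) s (fun x x' => by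
      rcases Set.eq_empty_or_nonempty ((D x.1 ⊓ D x'.1 : X.Opens) : Set X) with he | ⟨z, hz, hz'⟩
      · exact TopCat.Presheaf.section_ext X.sheaf _ _ _ fun z hz => absurd hz (by
          show z ∉ ((D x.1 ⊓ D x'.1 : X.Opens) : Set X)
          rw [he]; exact Set.notMem_empty z)
      · have h1 : η x.1 ∈ D x'.1 := (hspec x.1 z hz).mem_open (D x'.1).2 hz'
        have h2 : η x'.1 ∈ D x.1 := (hspec x'.1 z hz').mem_open (D x.1).2 hz
        have heq : η x.1 = η x'.1 := ((hspec x.1 _ h2).antisymm (hspec x'.1 _ h1)).eq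
        refine hinjD x.1 _ inf_le_left (show η x.1 ∈ D x.1 ⊓ D x'.1 from ⟨hηD x.1, h1⟩) ?_
        refine (TopCat.Presheaf.germ_res_apply _ _ _ _ _).trans
          ((hs x).trans ((?_ : _ = _).trans (TopCat.Presheaf.germ_res_apply _ _ _ _ _).symm))
        have key : ∀ (y : X) (hy : y ∈ D x'.1) (hyF : y ∈ F), y = η x'.1 →
            X.presheaf.germ (D x'.1) y hy (s x') = v ⟨y, hyF⟩ := by
          rintro y hy hyF rfl
          exact hs x'
        exact (key (η x.1) h1 (Finset.mem_image_of_mem η x.2) heq).symm)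
  refine ⟨a, funext fun y => ?_⟩
  obtain ⟨x, hxt, hx⟩ := Finset.mem_image.mp y.2
  obtain ⟨y, hy⟩ := y
  subst hx
  show X.presheaf.germ ⊤ (η x) trivial a = v ⟨η x, hy⟩
  rw [← hs ⟨x, hxt⟩, ← ha ⟨x, hxt⟩]
  exact (TopCat.Presheaf.germ_res_apply _ (homOfLE (le_top : D x ≤ ⊤)) _ (hηD x) a).symm

end Groth.Agent.RegSect
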